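import Groth.Agent.Lib.Chev24.SemiAb
import Groth.Agent.Lib.Chev24.SepDesc
import Groth.Agent.Lib.UnipFix19.Reductive
import Groth.Agent.Lib.MultMaxTorus14.Basic
import Groth.Agent.Lib.NormQF14.Pow

/-!
# A maximal torus of a commutative group receives every homomorphism from a torus
-/

set_option autoImplicit false
set_option linter.all false
set_option backward.isDefEq.respectTransparency false
set_option maxHeartbeats 1000000
set_option synthInstance.maxHeartbeats 200000

universe u

open CategoryTheory CategoryTheory.Limits MonoidalCategory CartesianMonoidalCategory MonObj GrpObj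
open AlgebraicGeometry

noncomputable section

namespace GrothLib.TorusFactor19

open GrothLib.Chev24

attribute [-instance] Hom.commGroup Hom.commMonoid CommGrpObj.toIsCommMonObj

/-- Over an algebraically closed field a maximal torus of a commutative group receives every torus. -/
theorem exists_factor_algClosed {k : Type u} [Field k] [IsAlgClosed k] {G T : Over (Spec (CommRingCat.of k))}
    [GrpObj G] [GrpObj T] [LocallyOfFiniteType G.hom]
    (hcomm : ∀ (X : Over (Spec (CommRingCat.of k))) (g h : X ⟶ G), g * h = h * g)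
    {iT : T ⟶ G} (hT : AGF.IsMaxTorus iT) {R : Over (Spec (CommRingCat.of k))} [GrpObj R] (j : R ⟶ G)
    [IsMonHom j] (hR : Red.IsTorus R) : ∃ y : R ⟶ T, y ≫ iT = j := by
  obtain ⟨hm, hmono, hTt, hmax⟩ := hT
  haveI := hm; haveI := hmono
  obtain ⟨-, hTa, hTs, hTc⟩ := torus_facts' hTt iT
  haveI := hTa; haveI := hTs; haveI := hTc
  obtain ⟨hRa, hRl⟩ := GrothLib.OneMotFaith14.isAffine_of_isTorus hR
  obtain ⟨hRs, hRc⟩ := GrothLib.Rigidity.smooth_connected_of_isTorus R hR
  haveI := hRa; haveI := hRs; haveI := hRc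
  haveI : IsSeparated G.hom := GrpSchField.isSeparated G
  let P := T ⊗ R
  haveI : IsAffine P.left := inferInstanceAs (IsAffine (pullback T.hom R.hom))
  haveI : Smooth P.hom := inferInstanceAs (Smooth (pullback.fst T.hom R.hom ≫ T.hom))
  haveI : GeometricallyReduced R.hom := GrothLib.Rigidity.geometricallyReduced_of_smooth R.hom
  haveI : GeometricallyIntegral R.hom := GrothLib.Rigidity.geometricallyIntegral_of_connected R
  haveI : GeometricallyConnected R.hom := GrothLib.Rigidity.geometricallyConnected_of_geometricallyIrreducible _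
  haveI : UniversallyOpen R.hom := UniversallyOpen.of_flat _
  haveI : ConnectedSpace P.left := inferInstanceAs (ConnectedSpace ↥(pullback T.hom R.hom))
  have hPt : Red.IsTorus P := by
    refine isTorus_of_noUnip (isSolvable_pts_of_comm fun a b => ?_) fun U _ w hw hwc hUu hUs hUc => ?_
    · apply CartesianMonoidalCategory.hom_ext <;> rw [MonObj.mul_comp, MonObj.mul_comp]
      · exact torus_comm hTt _ _
      · exact torus_comm hR _ _
    · haveI := hw
      apply CartesianMonoidalCategory.hom_ext <;> rw [MonObj.one_comp]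
      · exact unip_to_torus_eq_one hUu hTt (w ≫ fst T R)
      · exact unip_to_torus_eq_one hUu hR (w ≫ snd T R)
  let φ : P ⟶ G := (fst T R ≫ iT) * (snd T R ≫ j)
  have hmul : ∀ (X : Over (Spec (CommRingCat.of k))) (a b : X ⟶ P), (a * b) ≫ φ = (a ≫ φ) * (b ≫ φ) := fun X a b => by
    simp only [φ, MonObj.comp_mul, ← Category.assoc, MonObj.mul_comp]
    rw [_root_.mul_assoc, _root_.mul_assoc]
    congr 1
    rw [← _root_.mul_assoc, ← _root_.mul_assoc, hcomm X ((b ≫ fst T R) ≫ iT) ((a ≫ snd T R) ≫ j)]
  haveI : IsMonHom φ := GrpSchField.isMonHom_of_mul φ (by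
    have h := hmul _ (fst P P) (snd P P)
    rw [Hom.mul_def, Hom.mul_def, lift_fst_snd, Category.id_comp] at h
    rw [h, lift_fst_comp_snd_comp])
  haveI : QuasiCompact φ.left := by
    haveI : QuasiCompact (φ.left ≫ G.hom) := by rw [Over.w φ]; infer_instance
    exact QuasiCompact.of_comp _ G.hom
  obtain ⟨Q, _, p, i, hp, hi, hpi, hps, hpf, hplfp, him, hQl, -⟩ := Neutral.exists_factor_field φ
  haveI := hp; haveI := hi; haveI := hps; haveI := hpf; haveI := hplfp; haveI := him; haveI := hQl
  haveI : Smooth Q.hom := GrothLib.FppfSource.fppfSourceDescends_smooth p.left Q.hom hpf hplfp hps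
    (by rw [Over.w p]; infer_instance)
  haveI : ConnectedSpace Q.left := p.left.surjective.connectedSpace p.left.continuous
  haveI : IsAffine Q.left := Chevalley.isAffine_of_surjective_hom p
  have hQt : Red.IsTorus Q := isTorus_of_torus_surjective hPt p
  have hf : (lift (𝟙 T) (1 : T ⟶ R) ≫ p) ≫ i = iT := by
    rw [Category.assoc, hpi, MonObj.comp_mul, ← Category.assoc, ← Category.assoc, lift_fst, lift_snd,
      Category.id_comp, MonObj.one_comp, _root_.mul_one]
  haveI : IsIso (lift (𝟙 T) (1 : T ⟶ R) ≫ p) := hmax Q i _ hQt hf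
  refine ⟨lift (1 : R ⟶ T) (𝟙 R) ≫ p ≫ inv (lift (𝟙 T) (1 : T ⟶ R) ≫ p), ?_⟩
  rw [Category.assoc, Category.assoc, show inv (lift (𝟙 T) (1 : T ⟶ R) ≫ p) ≫ iT = i from
    (IsIso.inv_comp_eq _).2 hf.symm, hpi, MonObj.comp_mul, ← Category.assoc, ← Category.assoc, lift_fst, lift_snd,
    Category.id_comp, MonObj.one_comp, _root_.one_mul]

/-- A maximal torus of a commutative group receives every homomorphism from a torus. -/
theorem exists_factor {k : Type u} [Field k] {G T : Over (Spec (CommRingCat.of k))} [GrpObj G] [GrpObj T]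
    [LocallyOfFiniteType G.hom] (hcomm : ∀ (X : Over (Spec (CommRingCat.of k))) (g h : X ⟶ G), g * h = h * g)
    {iT : T ⟶ G} (hT : Red.IsMaximalTorus iT) {R : Over (Spec (CommRingCat.of k))} [GrpObj R] (j : R ⟶ G)
    [IsMonHom j] (hR : Red.IsTorus R) : ∃ y : R ⟶ T, IsMonHom y ∧ y ≫ iT = j := by
  obtain ⟨hm, hmono, hTt, hmax⟩ := hT
  haveI := hm; haveI := hmono
  let x₀ : ↥(Spec (CommRingCat.of k)) := IsLocalRing.closedPoint k
  let q := Red.geomPt x₀
  haveI : (Over.pullback q).IsRightAdjoint := (Over.mapPullbackAdj _).isRightAdjoint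
  haveI : LocallyOfFiniteType (Red.bc q G).hom := MorphismProperty.pullback_snd G.hom q ‹_›
  haveI : Mono ((Over.pullback q).map iT) := (Over.pullback q).map_mono iT
  have hmax' : AGF.IsMaxTorus ((Over.pullback q).map iT) :=
    ⟨inferInstance, inferInstance, GrothLib.Flag27.isTorus_bc_field q hTt, fun T' _ j' _ _ f hT' hf => hmax x₀ T' j' f hT' hf⟩
  obtain ⟨z, hz⟩ := exists_factor_algClosed (fun X g h => by
      obtain ⟨g', rfl⟩ := (GrothLib.DiagGrp.bcPointMulEquiv q G X).surjective g
      obtain ⟨h', rfl⟩ := (GrothLib.DiagGrp.bcPointMulEquiv q G X).surjective h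
      rw [← map_mul, ← map_mul, hcomm]) hmax' ((Over.pullback q).map j) (GrothLib.Flag27.isTorus_bc_field q hR)
  haveI : Surjective q := GrothLib.Flag27.surjective_to_field _
  haveI : Flat q := GrothLib.Flag27.flat_to_field _
  haveI : Mono iT.left := (Over.forget _).map_mono iT
  obtain ⟨y, hy⟩ := factor_of_bc q iT j z hz
  haveI : IsMonHom (y ≫ iT) := by rw [hy]; infer_instance
  exact ⟨y, GrothLib.DiagGrp.isMonHom_of_comp_mono y iT, hy⟩

/-- Power maps of tori are surjective. -/
theorem surjective_pow {S : Scheme.{u}} {T : Over S} [GrpObj T] (hT : Red.IsTorus T) {n : ℕ} (hn : 0 < n) :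
    Surjective ((𝟙 T : T ⟶ T) ^ n).left := by
  haveI := GrothLib.NormQF14.isFinite_pow T (GrothLib.UnipFix19.isMultTypeFT_of_isTorus hT) n hn
  haveI : IsSchemeTheoreticallyDominant ((𝟙 T : T ⟶ T) ^ n).left :=
    GrothLib.MultMaxTorus14.dominant_pw hT hn.ne'
  refine ⟨Set.range_eq_univ.1 ?_⟩
  rw [← (((𝟙 T : T ⟶ T) ^ n).left.isClosedMap.isClosed_range).closure_eq]
  exact ((𝟙 T : T ⟶ T) ^ n).left.denseRange.closure_eq

end GrothLib.TorusFactor19
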